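import Mathlib

/-! Cauchy–Binet over strictly decreasing tuples and orthogonality of alternants at roots of unity. -/

set_option autoImplicit false

namespace Groth.Agent.VerlindeH28

open Finset

lemma perm_eq_one_of_strictMono {r : ℕ} (q : Equiv.Perm (Fin r)) (hq : StrictMono q) : q = 1 := by
  have h : (StrictMono.orderIsoOfSurjective q hq q.surjective) = OrderIso.refl (Fin r) := Subsingleton.elim _ _
  ext i
  have := congrArg (fun e : Fin r ≃o Fin r => (e i : ℕ)) h
  simpa using this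

section CauchyBinet

variable {r m : ℕ} {R : Type*} [CommRing R] [IsDomain R] [CharZero R]

/-- Cauchy–Binet. -/
theorem cauchy_binet (A B : Fin r → Fin m → R) :
    ∑ a ∈ (univ : Finset (Fin r → Fin m)).filter (fun a : Fin r → Fin m => StrictAnti a),
        (Matrix.of fun i j => A i (a j)).det * (Matrix.of fun i j => B i (a j)).det
      = (Matrix.of fun i l => ∑ x, A i x * B l x).det := by
  classical
  set F : (Fin r → Fin m) → R := fun a =>
    (Matrix.of fun i j => A i (a j)).det * (Matrix.of fun i j => B i (a j)).det with hF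
  set G : Matrix (Fin r) (Fin r) R := Matrix.of fun i l => ∑ x, A i x * B l x with hG
  set Sset := (univ : Finset (Fin r → Fin m)).filter (fun a : Fin r → Fin m => StrictAnti a) with hS
  have hall : ∑ a, F a = (r.factorial : R) * G.det := by
    simp only [hF, Matrix.det_apply', Matrix.of_apply, Finset.sum_mul, Finset.mul_sum]
    rw [Finset.sum_comm]
    have : ∀ σ : Equiv.Perm (Fin r), (∑ a : Fin r → Fin m, ∑ τ : Equiv.Perm (Fin r),
        ((Equiv.Perm.sign τ : ℤ) : R) * (∏ j, A (τ j) (a j)) * (((Equiv.Perm.sign σ : ℤ) : R) * ∏ j, B (σ j) (a j)))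
        = G.det * 1 := by
      intro σ
      rw [Finset.sum_comm, mul_one, Matrix.det_apply']
      simp only [hG, Matrix.of_apply]
      rw [← Equiv.sum_comp (Equiv.mulRight σ)]
      refine Finset.sum_congr rfl fun τ _ => ?_
      simp only [Equiv.coe_mulRight, Equiv.Perm.sign_mul]
      rw [← Equiv.prod_comp σ (fun i => ∑ x, A (τ i) x * B i x), Finset.prod_univ_sum, Fintype.piFinset_univ,
        Finset.mul_sum]
      refine Finset.sum_congr rfl fun a _ => ?_
      rw [Finset.prod_mul_distrib]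
      simp only [Equiv.Perm.mul_apply]
      rcases Int.units_eq_one_or (Equiv.Perm.sign σ) with h | h <;>
        rcases Int.units_eq_one_or (Equiv.Perm.sign τ) with h' | h' <;> simp [h, h']
    rw [Finset.sum_congr rfl fun σ _ => this σ, Finset.sum_const, Finset.card_univ, Fintype.card_perm,
      Fintype.card_fin, mul_one, nsmul_eq_mul]
    simp [Matrix.det_apply', Finset.mul_sum]
  have hperm : ∀ (a : Fin r → Fin m) (p : Equiv.Perm (Fin r)), F (a ∘ p) = F a := by
    intro a p
    simp only [hF]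
    have e : ∀ C : Fin r → Fin m → R, (Matrix.of fun i j => C i ((a ∘ p) j))
        = (Matrix.of fun i j => C i (a j)).submatrix id p := fun C => rfl
    rw [e A, e B, Matrix.det_permute', Matrix.det_permute']
    rcases Int.units_eq_one_or (Equiv.Perm.sign p) with h | h <;> simp [h]
  have hzero : ∀ a : Fin r → Fin m, ¬ Function.Injective a → F a = 0 := by
    intro a ha
    simp only [Function.Injective, not_forall] at ha
    obtain ⟨i, j, hij, hne⟩ := ha
    simp only [hF]
    rw [Matrix.det_zero_of_column_eq hne (fun l => by simp [hij]), zero_mul]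
  have hbij : ∑ q ∈ (univ : Finset (Equiv.Perm (Fin r))) ×ˢ Sset, F (q.2 ∘ q.1)
      = ∑ v ∈ univ.filter (fun v : Fin r → Fin m => Function.Injective v), F v := by
    refine Finset.sum_bij (fun q _ => q.2 ∘ q.1) ?_ ?_ ?_ (fun _ _ => rfl)
    · intro q hq
      simp only [hS, mem_product, mem_filter, mem_univ, true_and] at hq ⊢
      exact hq.injective.comp q.1.injective
    · intro q hq q' hq' he
      simp only [hS, mem_product, mem_filter, mem_univ, true_and] at hq hq'
      have he' : ∀ j, q.2 (q.1 j) = q'.2 (q'.1 j) := congrFun he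
      have h1 : q.1.symm.trans q'.1 = 1 := by
        refine perm_eq_one_of_strictMono _ fun i j hij => ?_
        have h1 := he' (q.1.symm i); have h2 := he' (q.1.symm j)
        rw [Equiv.apply_symm_apply] at h1 h2
        have := hq hij
        rw [h1, h2] at this
        exact hq'.lt_iff_gt.1 this
      have hp : q.1 = q'.1 := by
        ext j
        have := congrArg (fun p : Equiv.Perm (Fin r) => p (q.1 j)) h1
        simp at this
        rw [this]
      refine Prod.ext hp (funext fun j => ?_)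
      have := he' (q.1.symm j)
      rwa [← hp, Equiv.apply_symm_apply] at this
    · intro v hv
      simp only [mem_filter, mem_univ, true_and] at hv
      let p : Equiv.Perm (Fin r) := Fin.revPerm.trans (Tuple.sort v)
      refine ⟨(p.symm, v ∘ p), ?_, funext fun j => by simp⟩
      simp only [hS, mem_product, mem_filter, mem_univ, true_and]
      refine Antitone.strictAnti_of_injective ?_ (hv.comp p.injective)
      intro i j hij
      exact Tuple.monotone_sort v (Fin.rev_le_rev.2 hij)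
  have h1 : ∑ a, F a = (r.factorial : R) * ∑ a ∈ Sset, F a := by
    rw [← Finset.sum_filter_add_sum_filter_not univ (fun v : Fin r → Fin m => Function.Injective v),
      Finset.sum_eq_zero (s := univ.filter fun v : Fin r → Fin m => ¬ Function.Injective v)
        (fun v hv => hzero v (mem_filter.1 hv).2), add_zero, ← hbij, Finset.sum_product,
      Finset.sum_congr rfl fun p _ => Finset.sum_congr rfl fun a _ => hperm a p, Finset.sum_const,
      Finset.card_univ, Fintype.card_perm, Fintype.card_fin, nsmul_eq_mul]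
  exact mul_left_cancel₀ (by exact_mod_cast r.factorial_ne_zero) (h1.symm.trans hall)

/-- Cauchy–Binet over the tuples ending at `0`. -/
theorem cauchy_binet_zero [NeZero m] (hr : 1 ≤ r) (A B : Fin r → Fin m → R) :
    ∑ a ∈ (univ : Finset (Fin r → Fin m)).filter
        (fun a : Fin r → Fin m => StrictAnti a ∧ ∀ i : Fin r, (i : ℕ) = r - 1 → (a i : ℕ) = 0),
        (Matrix.of fun i j => A i (a j)).det * (Matrix.of fun i j => B i (a j)).det
      = (Matrix.of fun i l => ∑ x, A i x * B l x).det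
        - (Matrix.of fun i l => (∑ x, A i x * B l x) - A i 0 * B l 0).det := by
  classical
  let A' : Fin r → Fin m → R := fun i x => if x = 0 then 0 else A i x
  have hG : (Matrix.of fun i l => (∑ x, A i x * B l x) - A i 0 * B l 0)
      = Matrix.of fun i l => ∑ x, A' i x * B l x := by
    ext i l
    simp only [Matrix.of_apply, A', ite_mul, zero_mul]
    rw [← Finset.add_sum_erase _ _ (mem_univ (0 : Fin m)),
      ← Finset.add_sum_erase _ (fun x => if x = 0 then 0 else A i x * B l x) (mem_univ (0 : Fin m)), if_pos rfl,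
      zero_add, add_sub_cancel_left]
    exact Finset.sum_congr rfl fun x hx => by rw [if_neg (mem_erase.1 hx).1]
  rw [hG, ← cauchy_binet, ← cauchy_binet, ← Finset.sum_sub_distrib, ← Finset.filter_filter, Finset.sum_filter]
  refine Finset.sum_congr rfl fun a ha => ?_
  rw [mem_filter] at ha
  let last : Fin r := ⟨r - 1, by omega⟩
  split_ifs with h
  · have h0 : (Matrix.of fun i j => A' i (a j)).det = 0 := by
      refine Matrix.det_eq_zero_of_column_eq_zero last fun i => ?_
      have e0 : a last = 0 := Fin.ext (by simpa using h last rfl)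
      simp [A', e0]
    rw [h0, zero_mul, sub_zero]
  · have : (Matrix.of fun i j => A' i (a j)) = Matrix.of fun i j => A i (a j) := by
      ext i j
      simp only [Matrix.of_apply, A']
      rw [if_neg]
      intro hj
      refine h fun l hl => ?_
      have h1 : a l ≤ a j := ha.2.antitone (show (j : ℕ) ≤ (l : ℕ) by rw [hl]; have := j.isLt; omega)
      rw [hj] at h1
      exact le_antisymm (by simpa using Fin.le_def.1 h1) (Nat.zero_le _)
    rw [this, sub_self]

end CauchyBinet

section Roots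

variable {r n : ℕ}

lemma det_const_sub_rankOne {K : Type*} [Field K] (c : K) (hc : c ≠ 0) (hr : 1 ≤ r) (u w : Fin r → K) :
    (Matrix.of fun i l => (if i = l then c else 0) - u i * w l).det = c ^ (r - 1) * (c - ∑ i, w i * u i) := by
  classical
  have e : (Matrix.of fun i l => (if i = l then c else 0) - u i * w l)
      = c • (1 + Matrix.replicateCol Unit (fun i => -(u i / c)) * Matrix.replicateRow Unit w) := by
    ext i l
    simp [Matrix.one_apply, Matrix.mul_apply]
    split_ifs <;> field_simp <;> ring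
  rw [e, Matrix.det_smul, Fintype.card_fin, Matrix.det_one_add_replicateCol_mul_replicateRow]
  have : c ^ r = c ^ (r - 1) * c := by rw [← pow_succ]; congr 1; omega
  rw [this, mul_assoc]
  congr 1
  simp only [dotProduct, mul_add, mul_one, Finset.mul_sum]
  rw [sub_eq_add_neg, ← Finset.sum_neg_distrib]
  congr 1
  exact Finset.sum_congr rfl fun i _ => by field_simp

variable [NeZero n] {ζ : ℂ} (hζ : IsPrimitiveRoot ζ n)
include hζ

lemma root_ne_zero : ζ ≠ 0 := hζ.ne_zero (NeZero.ne n)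

lemma sum_root_pow (e : ℤ) :
    ∑ x : Fin n, (ζ ^ e) ^ (x : ℕ) = if (n : ℤ) ∣ e then (n : ℂ) else 0 := by
  split_ifs with h
  · simp [(hζ.zpow_eq_one_iff_dvd e).2 h]
  · rw [Fin.sum_univ_eq_sum_range (fun x => (ζ ^ e) ^ x),
      geom_sum_eq (fun h' => h ((hζ.zpow_eq_one_iff_dvd e).1 h'))]
    rw [← zpow_natCast (ζ ^ e), ← zpow_mul, mul_comm, zpow_mul, zpow_natCast, hζ.pow_eq_one, one_zpow]
    simp

lemma sum_mul (e e' : ℤ) :
    ∑ x : Fin n, (ζ ^ (x : ℕ)) ^ e * (ζ ^ (x : ℕ)) ^ e' = if (n : ℤ) ∣ e + e' then (n : ℂ) else 0 := by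
  rw [← sum_root_pow hζ]
  refine Finset.sum_congr rfl fun x _ => ?_
  rw [← zpow_add₀ (pow_ne_zero _ (root_ne_zero hζ)), ← zpow_natCast ζ, ← zpow_mul, mul_comm, zpow_mul, zpow_natCast]

/-- The pinned alternant pairing vanishes without a matching. -/
theorem pinned_eq_zero (hr : 1 ≤ r) (x y : Fin r → ℤ) (hx : ∀ i j, (n : ℤ) ∣ x i - x j → i = j)
    (hy : ∀ i j, (n : ℤ) ∣ y i - y j → i = j) (hsum : (∑ i, x i) + ∑ i, y i = 0)
    (hno : ¬ ∃ π : Equiv.Perm (Fin r), ∀ i, (n : ℤ) ∣ x i + y (π i)) :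
    ∑ a ∈ (univ : Finset (Fin r → Fin n)).filter
        (fun a : Fin r → Fin n => StrictAnti a ∧ ∀ i : Fin r, (i : ℕ) = r - 1 → (a i : ℕ) = 0),
        (Matrix.of fun i j => (ζ ^ (a j : ℕ)) ^ x i).det * (Matrix.of fun i j => (ζ ^ (a j : ℕ)) ^ y i).det = 0 := by
  classical
  rw [cauchy_binet_zero hr (fun i (t : Fin n) => (ζ ^ (t : ℕ)) ^ x i) (fun i (t : Fin n) => (ζ ^ (t : ℕ)) ^ y i)]
  simp only [sum_mul hζ, Fin.val_zero, pow_zero, one_zpow, mul_one]
  have hun : ∃ i, ∀ l, ¬ (n : ℤ) ∣ x i + y l := by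
    by_contra h
    push Not at h
    choose f hf using h
    have finj : Function.Injective f := fun i j e => hx i j (by
      have h := dvd_sub (hf i) (hf j)
      rw [e, add_sub_add_right_eq_sub] at h
      exact h)
    exact hno ⟨Equiv.ofBijective f (Finite.injective_iff_bijective.1 finj), hf⟩
  obtain ⟨i0, hi0⟩ := hun
  by_cases h2 : ∃ i1, i1 ≠ i0 ∧ ∀ l, ¬ (n : ℤ) ∣ x i1 + y l
  · obtain ⟨i1, hne, hi1⟩ := h2
    rw [Matrix.det_eq_zero_of_row_eq_zero i0 (fun l => by simp [hi0 l]),
      Matrix.det_zero_of_row_eq hne (funext fun l => by simp [hi0 l, hi1 l]), sub_zero]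
  · exfalso
    push Not at h2
    choose f hf using h2
    let g : Fin r → Fin r := fun i => if h : i = i0 then i0 else f i h
    have ginj : Set.InjOn g ↑((univ : Finset (Fin r)).erase i0) := by
      intro i hi j hj e
      simp only [coe_erase, coe_univ, Set.mem_sdiff, Set.mem_univ, Set.mem_singleton_iff, true_and] at hi hj
      simp only [g, dif_neg hi, dif_neg hj] at e
      refine hx i j ?_
      have h := dvd_sub (hf i hi) (hf j hj)
      rw [e, add_sub_add_right_eq_sub] at h
      exact h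
    set I := ((univ : Finset (Fin r)).erase i0).image g with hI
    have hIc : Iᶜ.card = 1 := by
      rw [Finset.card_compl, hI, Finset.card_image_of_injOn ginj, card_erase_of_mem (mem_univ _), card_univ,
        Fintype.card_fin]
      omega
    obtain ⟨l0, hl0⟩ := Finset.card_eq_one.1 hIc
    refine hi0 l0 ?_
    have hyI : ∑ i, y i = y l0 + ∑ i ∈ (univ : Finset (Fin r)).erase i0, y (g i) := by
      rw [← Finset.sum_compl_add_sum I, hl0, Finset.sum_singleton, hI, Finset.sum_image ginj]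
    have hx0 := (Finset.add_sum_erase univ x (mem_univ i0)).symm
    have hd : (n : ℤ) ∣ ∑ i ∈ (univ : Finset (Fin r)).erase i0, (x i + y (g i)) :=
      Finset.dvd_sum fun i hi => by
        simp only [g, dif_neg (mem_erase.1 hi).1]; exact hf i _
    rw [Finset.sum_add_distrib] at hd
    have : x i0 + y l0 = -((∑ i ∈ (univ : Finset (Fin r)).erase i0, x i)
        + ∑ i ∈ (univ : Finset (Fin r)).erase i0, y (g i)) := by linarith
    rw [this, dvd_neg]
    exact hd

omit hζ in
/-- A matching of bounded exponents with exact total is exact. -/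
lemma matching_exact (c d : Fin r → ℤ) (hc : ∀ i, 0 ≤ c i ∧ c i < n) (hd : ∀ i, 0 ≤ d i ∧ d i < n) (M : ℤ)
    (π : Equiv.Perm (Fin r)) (hm : ∀ i, (n : ℤ) ∣ c i - d (π i) - M)
    (hsum : (∑ i, c i) - (∑ i, d i) = r * M) : ∀ i, c i - d (π i) = M := by
  choose e he using hm
  have hn : (0 : ℤ) < n := by exact_mod_cast Nat.pos_of_ne_zero (NeZero.ne n)
  have hclose : ∀ i j, e i ≤ e j + 1 := by
    intro i j
    by_contra h
    have h2 : (n : ℤ) * (e j + 2) ≤ n * e i := mul_le_mul_of_nonneg_left (by omega) hn.le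
    rw [mul_add, ← he i, ← he j] at h2
    linarith [hc i, hc j, hd (π i), hd (π j)]
  have hz : ∑ i, e i = 0 := by
    have : (n : ℤ) * ∑ i, e i = 0 := by
      rw [Finset.mul_sum, ← Finset.sum_congr rfl fun i _ => he i, Finset.sum_sub_distrib, Finset.sum_sub_distrib,
        Equiv.sum_comp π d, Finset.sum_const, Finset.card_univ, Fintype.card_fin, nsmul_eq_mul, hsum, sub_self]
    exact (mul_eq_zero.1 this).resolve_left hn.ne'
  intro i
  have he0 : e i = 0 := by
    rcases lt_trichotomy (e i) 0 with h | h | h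
    · have : ∑ j, e j < ∑ _j : Fin r, (0 : ℤ) :=
        Finset.sum_lt_sum (fun j _ => by have := hclose j i; omega) ⟨i, mem_univ i, h⟩
      simp [hz] at this
    · exact h
    · have : ∑ _j : Fin r, (0 : ℤ) < ∑ j, e j :=
        Finset.sum_lt_sum (fun j _ => by have := hclose i j; omega) ⟨i, mem_univ i, h⟩
      simp [hz] at this
  have h := he i
  rw [he0, mul_zero] at h
  linarith

end Roots

/-- Twisted pinned sums vanish when `r` does not divide the twist. -/
theorem rotation_eq_zero {r n : ℕ} [NeZero n] (hr : 1 ≤ r) (D : ℤ) (hD : ¬ (r : ℤ) ∣ D)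
    (x y : Fin r → ℤ) (hsum : (∑ i, x i) + ∑ i, y i = D) :
    ∑ a ∈ (univ : Finset (Fin r → Fin n)).filter
        (fun a : Fin r → Fin n => StrictAnti a ∧ ∀ i : Fin r, (i : ℕ) = r - 1 → (a i : ℕ) = 0),
      Complex.exp (-(2 * Real.pi * Complex.I * (D : ℂ) * ((∑ j, (a j : ℕ) : ℕ) : ℂ) / ((r : ℂ) * n))) *
      ((Matrix.of fun i j => (Complex.exp (2 * Real.pi * Complex.I / n) ^ (a j : ℕ)) ^ x i).det *
        (Matrix.of fun i j => (Complex.exp (2 * Real.pi * Complex.I / n) ^ (a j : ℕ)) ^ y i).det) = 0 := by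
  classical
  have hr2 : 2 ≤ r := by
    by_contra h
    have : r = 1 := by omega
    exact hD (this ▸ one_dvd _)
  set ζ : ℂ := Complex.exp (2 * Real.pi * Complex.I / n) with hζdef
  have hζ : IsPrimitiveRoot ζ n := Complex.isPrimitiveRoot_exp n (NeZero.ne n)
  have hζ0 : ζ ≠ 0 := Complex.exp_ne_zero _
  set Sset := (univ : Finset (Fin r → Fin n)).filter
    (fun a : Fin r → Fin n => StrictAnti a ∧ ∀ i : Fin r, (i : ℕ) = r - 1 → (a i : ℕ) = 0) with hSset
  let Φ : (Fin r → ℕ) → ℂ := fun v =>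
    Complex.exp (-(2 * Real.pi * Complex.I * (D : ℂ) * ((∑ j, v j : ℕ) : ℂ) / ((r : ℂ) * n))) *
      ((Matrix.of fun i j => (ζ ^ v j) ^ x i).det * (Matrix.of fun i j => (ζ ^ v j) ^ y i).det)
  show ∑ a ∈ Sset, Φ (fun j => (a j : ℕ)) = 0
  let last : Fin r := ⟨r - 1, by omega⟩
  set ξ : ℂ := Complex.exp (-(2 * Real.pi * Complex.I * (D : ℂ) / r)) with hξ
  have hξ1 : ξ ≠ 1 := by
    intro h
    rw [hξ, Complex.exp_eq_one_iff] at h
    obtain ⟨m, hm⟩ := h
    have hr0 : (r : ℂ) ≠ 0 := by exact_mod_cast (show r ≠ 0 by omega)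
    have h2 : (2 * Real.pi * Complex.I : ℂ) ≠ 0 := Complex.two_pi_I_ne_zero
    have : (D : ℂ) = -(m : ℂ) * r := by
      field_simp at hm
      linear_combination -hm
    have : D = -m * r := by exact_mod_cast this
    exact hD ⟨-m, by rw [this]; ring⟩
  let pre : Fin r := ⟨r - 2, by omega⟩
  let c : (Fin r → Fin n) → ℕ := fun v => (v pre : ℕ)
  let ρ : (Fin r → Fin n) → (Fin r → Fin n) := fun v j =>
    if (j : ℕ) = 0 then Fin.ofNat n (n - c v) else Fin.ofNat n ((v ⟨(j : ℕ) - 1, by omega⟩ : ℕ) - c v)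
  have hmem : ∀ v ∈ Sset, StrictAnti v ∧ (v last : ℕ) = 0 ∧ 0 < c v := by
    intro v hv
    rw [hSset, mem_filter] at hv
    refine ⟨hv.2.1, hv.2.2 last rfl, ?_⟩
    have h : v last < v pre := hv.2.1 (show (pre : ℕ) < last by simp [pre, last]; omega)
    exact lt_of_le_of_lt (Nat.zero_le _) h
  have hρv : ∀ v ∈ Sset, ∀ j : Fin r, (ρ v j : ℕ) = if (j : ℕ) = 0 then n - c v
      else (v ⟨(j : ℕ) - 1, by omega⟩ : ℕ) - c v := by
    intro v hv j
    have := (hmem v hv).2.2
    simp only [ρ]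
    split_ifs
    · simp only [Fin.val_ofNat]; exact Nat.mod_eq_of_lt (by have := (v pre).isLt; omega)
    · simp only [Fin.val_ofNat]; exact Nat.mod_eq_of_lt (lt_of_le_of_lt (Nat.sub_le _ _) (Fin.isLt _))
  have hge : ∀ v ∈ Sset, ∀ j : Fin r, (j : ℕ) ≤ r - 2 → c v ≤ (v j : ℕ) := by
    intro v hv j hj
    exact (hmem v hv).1.antitone (show j ≤ pre from hj)
  have hρmem : ∀ v ∈ Sset, ρ v ∈ Sset := by
    intro v hv
    rw [hSset, mem_filter]
    refine ⟨mem_univ _, fun i j hij => ?_, fun i hi => ?_⟩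
    · show (ρ v j : ℕ) < ρ v i
      have hij' : (i : ℕ) < j := hij
      have := j.isLt
      rw [hρv v hv, hρv v hv, if_neg (by omega)]
      have h1 := hge v hv ⟨(j : ℕ) - 1, by omega⟩ (by simp; omega)
      split_ifs with hi0
      · have := (v ⟨(j : ℕ) - 1, by omega⟩).isLt
        omega
      · have h2 : (v ⟨(j : ℕ) - 1, by omega⟩ : ℕ) < v ⟨(i : ℕ) - 1, by omega⟩ :=
          (hmem v hv).1 (show ((i : ℕ) - 1) < (j : ℕ) - 1 by omega)
        omega
    · rw [hρv v hv, if_neg (by omega)]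
      simp only [c, pre, hi, show r - 1 - 1 = r - 2 by omega, Nat.sub_self]
  have hρinj : ∀ v ∈ Sset, ∀ w ∈ Sset, ρ v = ρ w → v = w := by
    intro v hv w hw h
    have hc0 : n - c v = n - c w := by
      have := congrArg (fun u : Fin r → Fin n => (u ⟨0, by omega⟩ : ℕ)) h
      simpa [hρv v hv, hρv w hw] using this
    have : c v = c w := by
      have := (v pre).isLt; have := (w pre).isLt
      simp only [c] at hc0 ⊢; omega
    funext i
    apply Fin.ext
    by_cases hi : (i : ℕ) = r - 1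
    · rw [show i = last from Fin.ext hi, (hmem v hv).2.1, (hmem w hw).2.1]
    · have hi' : (i : ℕ) + 1 < r := by omega
      have hh := congrArg (fun u : Fin r → Fin n => (u ⟨(i : ℕ) + 1, hi'⟩ : ℕ)) h
      simp [hρv v hv, hρv w hw] at hh
      have := hge v hv i (by omega); have := hge w hw i (by omega)
      omega
  have hrot : ∀ v ∈ Sset, Φ (fun j => (ρ v j : ℕ)) = ξ * Φ (fun j => (v j : ℕ)) := by
    intro v hv
    set C := c v with hC
    let p : Equiv.Perm (Fin r) := (finRotate r).symm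
    have hp : ∀ j : Fin r, (p j : ℕ) = if (j : ℕ) = 0 then r - 1 else (j : ℕ) - 1 := by
      intro j
      obtain ⟨i, rfl⟩ := (finRotate r).surjective j
      obtain ⟨q, rfl⟩ : ∃ q, r = q + 1 := ⟨r - 1, by omega⟩
      simp only [p, Equiv.symm_apply_apply, coe_finRotate]
      split_ifs with h1 h2 h2 <;> simp_all <;> omega
    have hval : ∀ j : Fin r, (ρ v j : ℕ) + C = (v (p j) : ℕ) + if (j : ℕ) = 0 then n else 0 := by
      intro j
      rw [hρv v hv]
      split_ifs with h
      · have : p j = last := Fin.ext (by rw [hp, if_pos h])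
        rw [this, (hmem v hv).2.1]
        have := (v pre).isLt
        simp only [hC, c] at *; omega
      · have : p j = ⟨(j : ℕ) - 1, by omega⟩ := Fin.ext (by rw [hp, if_neg h])
        rw [this]
        have := hge v hv ⟨(j : ℕ) - 1, by omega⟩ (by simp; omega)
        omega
    have hs : ∀ j : Fin r, ζ ^ (ρ v j : ℕ) = (ζ ^ C)⁻¹ * ζ ^ (v (p j) : ℕ) := by
      intro j
      rw [eq_inv_mul_iff_mul_eq₀ (pow_ne_zero _ hζ0), ← pow_add, add_comm, hval, pow_add]
      split_ifs
      · rw [hζ.pow_eq_one, mul_one]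
      · rw [pow_zero, mul_one]
    have hsum' : (∑ j, (ρ v j : ℕ)) + r * C = (∑ j, (v j : ℕ)) + n := by
      have := Finset.sum_congr rfl fun j (_ : j ∈ (univ : Finset (Fin r))) => hval j
      rw [Finset.sum_add_distrib, Finset.sum_add_distrib, Finset.sum_const, card_univ,
        Fintype.card_fin, smul_eq_mul, Equiv.sum_comp p (fun j => (v j : ℕ))] at this
      rw [this]
      congr 1
      rw [Finset.sum_eq_single (⟨0, by omega⟩ : Fin r)]
      · simp
      · intro j _ hj
        rw [if_neg fun h => hj (Fin.ext h)]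
      · simp
    have hA : ∀ e : Fin r → ℤ, (Matrix.of fun i j => (ζ ^ (ρ v j : ℕ)) ^ e i).det
        = ((Equiv.Perm.sign p : ℤ) : ℂ) * ((ζ ^ C)⁻¹) ^ (∑ i, e i) *
          (Matrix.of fun i j => (ζ ^ (v j : ℕ)) ^ e i).det := by
      intro e
      have h1 : (Matrix.of fun i j => (ζ ^ (ρ v j : ℕ)) ^ e i)
          = Matrix.of fun i j => (((ζ ^ C)⁻¹) ^ e i) *
            ((Matrix.of fun i j => (ζ ^ (v j : ℕ)) ^ e i).submatrix id p) i j := by
        ext i j; simp [hs, mul_zpow]
      have h2 : ∀ s : Finset (Fin r), ∏ i ∈ s, ((ζ ^ C)⁻¹) ^ e i = ((ζ ^ C)⁻¹) ^ (∑ i ∈ s, e i) := fun s => by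
        induction s using Finset.induction_on with
        | empty => simp
        | insert i s hi ih => rw [prod_insert hi, sum_insert hi, ih, zpow_add₀ (inv_ne_zero (pow_ne_zero _ hζ0))]
      rw [h1, Matrix.det_mul_column, Matrix.det_permute', h2]
      ring
    have hexp : Complex.exp (-(2 * Real.pi * Complex.I * (D : ℂ) * ((∑ j, (ρ v j : ℕ) : ℕ) : ℂ) / ((r : ℂ) * n)))
        = Complex.exp (-(2 * Real.pi * Complex.I * (D : ℂ) * ((∑ j, (v j : ℕ) : ℕ) : ℂ) / ((r : ℂ) * n)))
          * (ζ ^ C) ^ D * ξ := by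
      rw [hζdef, ← Complex.exp_nat_mul, ← Complex.exp_int_mul, hξ, ← Complex.exp_add, ← Complex.exp_add]
      congr 1
      have hr0 : (r : ℂ) ≠ 0 := by exact_mod_cast (show r ≠ 0 by omega)
      have hn0 : (n : ℂ) ≠ 0 := by exact_mod_cast (NeZero.ne n)
      have := congrArg (fun x : ℕ => (x : ℂ)) hsum'
      push_cast at this ⊢
      field_simp
      linear_combination (-((D : ℂ))) * this
    simp only [Φ]
    rw [hexp, hA x, hA y]
    have hxy : (ζ ^ C) ^ D * (((ζ ^ C)⁻¹) ^ (∑ i, x i) * ((ζ ^ C)⁻¹) ^ (∑ i, y i)) = 1 := by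
      rw [← zpow_add₀ (inv_ne_zero (pow_ne_zero _ hζ0)), hsum, ← mul_zpow, mul_inv_cancel₀ (pow_ne_zero _ hζ0),
        one_zpow]
    have hsg : ((Equiv.Perm.sign p : ℤ) : ℂ) * ((Equiv.Perm.sign p : ℤ) : ℂ) = 1 := by
      rcases Int.units_eq_one_or (Equiv.Perm.sign p) with h | h <;> simp [h]
    generalize ((Equiv.Perm.sign p : ℤ) : ℂ) = e at *
    generalize Complex.exp (-(2 * Real.pi * Complex.I * (D : ℂ) * ((∑ j, (v j : ℕ) : ℕ) : ℂ) / ((r : ℂ) * n))) = E
    generalize (ζ ^ C) ^ D = w at *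
    generalize ((ζ ^ C)⁻¹) ^ (∑ i, x i) = a at *
    generalize ((ζ ^ C)⁻¹) ^ (∑ i, y i) = b at *
    linear_combination (ξ * E * e * e * (Matrix.of fun i j => (ζ ^ (v j : ℕ)) ^ x i).det *
        (Matrix.of fun i j => (ζ ^ (v j : ℕ)) ^ y i).det) * hxy
      + (ξ * E * (Matrix.of fun i j => (ζ ^ (v j : ℕ)) ^ x i).det *
        (Matrix.of fun i j => (ζ ^ (v j : ℕ)) ^ y i).det) * hsg
  set G := ∑ v ∈ Sset, Φ (fun j => (v j : ℕ)) with hG
  have : ξ * G = G := by
    rw [hG, Finset.mul_sum, ← Finset.sum_congr rfl hrot]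
    refine Finset.sum_bij (fun v _ => ρ v) hρmem (fun v hv w hw h => hρinj v hv w hw h) ?_ (fun _ _ => rfl)
    exact fun w hw => Finset.surj_on_of_inj_on_of_card_le (fun v _ => ρ v) hρmem
      (fun v w hv hw h => hρinj v hv w hw h) le_rfl w hw |>.imp fun v hv => ⟨hv.1, hv.2.symm⟩
  by_contra hG0
  exact hξ1 (mul_right_cancel₀ hG0 (this.trans (one_mul G).symm))

section Schur

variable {r n : ℕ}

/-- The staircase. -/
def rho (r : ℕ) (i : Fin r) : ℕ := r - 1 - (i : ℕ)

/-- `P`. -/
noncomputable def P (r n : ℕ) (v : Fin r → ℕ) : ℝ :=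
  ∏ p ∈ (univ : Finset (Fin r × Fin r)).filter (fun p => p.1 < p.2),
    ((2 : ℝ) * Real.sin (Real.pi * ((v p.1 : ℝ) - (v p.2 : ℝ)) / (n : ℝ))) ^ 2

/-- The product of the Weyl denominator with its conjugate. -/
lemma delta_mul_conj [NeZero n] {ζ : ℂ} (hζdef : ζ = Complex.exp (2 * Real.pi * Complex.I / n))
    (v : Fin r → ℕ) :
    (Matrix.of fun i j => (ζ ^ v j) ^ (rho r i : ℤ)).det *
      (Matrix.of fun i j => (ζ ^ v j) ^ (-(rho r i : ℤ))).det = ((P r n v : ℝ) : ℂ) := by
  classical
  have hζ0 : ζ ≠ 0 := hζdef ▸ Complex.exp_ne_zero _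
  have h1 : ∀ u : Fin r → ℂ, (Matrix.of fun i j : Fin r => u j ^ rho r i)
      = ((Matrix.vandermonde u).transpose).submatrix Fin.revPerm id := fun u => by
    ext i j
    simp only [Matrix.of_apply, Matrix.submatrix_apply, Matrix.transpose_apply,
      Matrix.vandermonde_apply, Fin.revPerm_apply, id, Fin.val_rev, rho]
    congr 1
    omega
  simp only [zpow_natCast, zpow_neg, ← inv_pow]
  rw [h1, h1, Matrix.det_permute, Matrix.det_permute, Matrix.det_transpose, Matrix.det_transpose,
    Matrix.det_vandermonde, Matrix.det_vandermonde, mul_mul_mul_comm]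
  have h2 : (((Equiv.Perm.sign (Fin.revPerm : Equiv.Perm (Fin r)) : ℤˣ) : ℤ) : ℂ) *
      (((Equiv.Perm.sign (Fin.revPerm : Equiv.Perm (Fin r)) : ℤˣ) : ℤ) : ℂ) = 1 := by
    rcases Int.units_eq_one_or (Equiv.Perm.sign (Fin.revPerm : Equiv.Perm (Fin r))) with h | h <;> simp [h]
  rw [h2, one_mul, P, Complex.ofReal_prod, Finset.prod_filter, Fintype.prod_prod_type, ← Finset.prod_mul_distrib]
  refine Finset.prod_congr rfl fun i _ => ?_
  rw [← Finset.prod_filter, ← Finset.prod_mul_distrib, Finset.filter_lt_eq_Ioi]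
  refine Finset.prod_congr rfl fun j _ => ?_
  dsimp only
  set α : ℂ := Real.pi * (v i : ℂ) / n with hα
  set β : ℂ := Real.pi * (v j : ℂ) / n with hβ
  have hx : ζ ^ v i = Complex.exp (α * Complex.I) * Complex.exp (α * Complex.I) := by
    rw [hζdef, ← Complex.exp_nat_mul, ← Complex.exp_add]; congr 1; rw [hα]; ring
  have hy : ζ ^ v j = Complex.exp (β * Complex.I) * Complex.exp (β * Complex.I) := by
    rw [hζdef, ← Complex.exp_nat_mul, ← Complex.exp_add]; congr 1; rw [hβ]; ring
  have hsin : ((Real.sin (Real.pi * ((v i : ℝ) - (v j : ℝ)) / (n : ℝ)) : ℝ) : ℂ) = Complex.sin (α - β) := by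
    rw [Complex.ofReal_sin]; congr 1; rw [hα, hβ]; push_cast; ring
  simp only [inv_pow]
  push_cast [hsin] at *
  rw [hsin, hx, hy, Complex.sin, show -(α - β) * Complex.I = β * Complex.I + -(α * Complex.I) by ring,
    show (α - β) * Complex.I = α * Complex.I + -(β * Complex.I) by ring, Complex.exp_add, Complex.exp_add,
    Complex.exp_neg, Complex.exp_neg]
  have e1 := Complex.exp_ne_zero (α * Complex.I)
  have e2 := Complex.exp_ne_zero (β * Complex.I)
  field_simp
  ring_nf
  simp [Complex.I_sq]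
  try ring

lemma P_ne_zero [NeZero n] {v : Fin r → ℕ} (hv : StrictAnti v) (hlt : ∀ i, v i < n) : P r n v ≠ 0 := by
  refine Finset.prod_ne_zero_iff.2 fun p hp => pow_ne_zero _ (mul_ne_zero two_ne_zero ?_)
  rw [mem_filter] at hp
  have h1 := hv hp.2
  have hn : (0 : ℝ) < n := by exact_mod_cast Nat.pos_of_ne_zero (NeZero.ne n)
  have hd : (0 : ℝ) < (v p.1 : ℝ) - (v p.2 : ℝ) := sub_pos.2 (by exact_mod_cast h1)
  have h2 : (v p.1 : ℝ) < n := by exact_mod_cast hlt p.1
  have h3 : (0 : ℝ) ≤ (v p.2 : ℝ) := Nat.cast_nonneg _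
  refine (Real.sin_pos_of_pos_of_lt_pi (by positivity) ?_).ne'
  rw [div_lt_iff₀ hn]
  exact mul_lt_mul_of_pos_left (by linarith) Real.pi_pos

/-- The alternant of a complemented partition. -/
lemma det_compl (r k : ℕ) (hrk : 1 ≤ r + k) {ζ : ℂ} (hζ : ζ ≠ 0) (hpow : ζ ^ (r + k) = 1) (v μ : Fin r → ℕ)
    (hμ : ∀ i, μ i ≤ k) :
    (Matrix.of fun i j : Fin r => (ζ ^ v j) ^ ((k - μ (Fin.rev i)) + (r - 1 - (i : ℕ)))).det
      = ((Equiv.Perm.sign (Fin.revPerm : Equiv.Perm (Fin r)) : ℤ) : ℂ) * (∏ j, ζ ^ v j)⁻¹ *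
        (Matrix.of fun i j : Fin r => (ζ ^ v j) ^ (-((μ i + rho r i : ℕ) : ℤ))).det := by
  classical
  have h1 : (Matrix.of fun i j : Fin r => (ζ ^ v j) ^ ((k - μ (Fin.rev i)) + (r - 1 - (i : ℕ))))
      = Matrix.of fun i j => (ζ ^ v j)⁻¹ * ((Matrix.of fun i j : Fin r =>
          (ζ ^ v j) ^ (-((μ i + rho r i : ℕ) : ℤ))).submatrix Fin.revPerm id) i j := by
    ext i j
    simp only [Matrix.of_apply, Matrix.submatrix_apply, Fin.revPerm_apply, id]
    have hne : ζ ^ v j ≠ 0 := pow_ne_zero _ hζ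
    have hn1 : (ζ ^ v j) ^ (r + k) = 1 := by rw [← pow_mul, mul_comm, pow_mul, hpow, one_pow]
    have hi := i.isLt
    have := hμ (Fin.rev i)
    have hexp : ((k - μ (Fin.rev i)) + (r - 1 - (i : ℕ))) + 1 + (μ (Fin.rev i) + rho r (Fin.rev i)) = r + k := by
      simp only [rho, Fin.val_rev]; omega
    rw [← hexp, pow_add, pow_succ] at hn1
    rw [zpow_neg, zpow_natCast, ← mul_inv]
    exact eq_inv_of_mul_eq_one_left (by linear_combination hn1)
  rw [h1, Matrix.det_mul_row, Matrix.det_permute, Finset.prod_inv_distrib]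
  ring

/-- The Weyl denominator against its conjugate. -/
lemma delta_eq {ζ : ℂ} (hζ : ζ ≠ 0) (v : Fin r → ℕ) :
    (Matrix.of fun i j => (ζ ^ v j) ^ (rho r i : ℤ)).det
      = ((Equiv.Perm.sign (Fin.revPerm : Equiv.Perm (Fin r)) : ℤ) : ℂ) * (∏ j, ζ ^ v j) ^ (r - 1) *
        (Matrix.of fun i j => (ζ ^ v j) ^ (-(rho r i : ℤ))).det := by
  classical
  have h1 : (Matrix.of fun i j => (ζ ^ v j) ^ (rho r i : ℤ))
      = Matrix.of fun i j => ((ζ ^ v j) ^ (r - 1)) * ((Matrix.of fun i j : Fin r =>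
          (ζ ^ v j) ^ (-(rho r i : ℤ))).submatrix Fin.revPerm id) i j := by
    ext i j
    simp only [Matrix.of_apply, Matrix.submatrix_apply, Fin.revPerm_apply, id]
    rw [← zpow_natCast (ζ ^ v j) (r - 1), ← zpow_add₀ (pow_ne_zero _ hζ)]
    congr 1
    have := i.isLt
    simp only [rho, Fin.val_rev]
    omega
  rw [h1, Matrix.det_mul_row, Matrix.det_permute, Finset.prod_pow]
  ring

end Schur

end Groth.Agent.VerlindeH28
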